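import Groth.Agent.H0Lib.Rigidity
import Groth.Agent.FibBCLib.Basic

/-!
# Morphisms out of the base of a fibre space (`O = f_* O`), also after flat base change
-/

set_option autoImplicit false

universe u

open CategoryTheory CategoryTheory.Limits AlgebraicGeometry Opposite TopologicalSpace

namespace BlanchardLib

variable {X Y X' Y' : Scheme.{u}} {g' : X' ⟶ X} {f' : X' ⟶ Y'} {f : X ⟶ Y} {g : Y' ⟶ Y}

/-- A closed map bijective on functions is surjective. -/
theorem surjective_of_bijective (f : X ⟶ Y) [UniversallyClosed f]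
    (hb : ∀ U : Y.Opens, Function.Bijective (f.app U).hom) : Surjective f := by
  refine ⟨fun y => ?_⟩
  by_contra hy
  let U : Y.Opens := ⟨(Set.range f)ᶜ, f.isClosedMap.isClosed_range.isOpen_compl⟩
  have hU : f ⁻¹ᵁ U = ⊥ := le_bot_iff.mp fun x hx => (hx ⟨x, rfl⟩).elim
  haveI : Subsingleton Γ(X, f ⁻¹ᵁ U) := by rw [hU]; infer_instance
  haveI : Subsingleton Γ(Y, U) := (hb U).1.subsingleton
  haveI : Nontrivial Γ(Y, U) := (Y.presheaf.germ U y hy).hom.domain_nontrivial
  exact not_subsingleton Γ(Y, U) inferInstance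

/-- The condition `O = f_* O` is stable under flat base change. -/
theorem bijective_app_baseChange [Flat g] [QuasiCompact f] [QuasiSeparated f] (H : IsPullback g' f' f g)
    (hf : ∀ V : Y.Opens, IsIso (f.app V)) (W : Y'.Opens) : Function.Bijective (f'.app W).hom := by
  have small : ∀ (W : Y'.Opens) (y : Y'), y ∈ W → ∃ W' : Y'.Opens, W' ≤ W ∧ y ∈ W' ∧
      Function.Bijective (f'.app W').hom := fun W y hy => by
    obtain ⟨V, hV, hyV, -⟩ := exists_isAffineOpen_mem_and_subset (x := g y) (U := ⊤) trivial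
    obtain ⟨W', hW', hyW', hle'⟩ := exists_isAffineOpen_mem_and_subset (x := y) (U := W ⊓ g ⁻¹ᵁ V) ⟨hy, hyV⟩
    haveI := hf V
    exact ⟨W', fun z hz => (hle' hz).1, hyW', FibBCLib.bijective_app_of_flat H hV hW' fun z hz => (hle' hz).2⟩
  have nat : ∀ {V W : Y'.Opens} (h : V ≤ W) (s : Γ(Y', W)),
      f'.app V (Y'.presheaf.map (homOfLE h).op s) =
        X'.presheaf.map (homOfLE (f'.preimage_mono h)).op (f'.app W s) := fun h s => by
    rw [← CommRingCat.comp_apply, Scheme.Hom.naturality]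
    rfl
  have hinj : ∀ W : Y'.Opens, Function.Injective (f'.app W).hom := fun W s t hst => by
    refine TopCat.Presheaf.section_ext Y'.sheaf W s t fun y hy => ?_
    obtain ⟨W', hle, hyW', hb⟩ := small W y hy
    have h2 : Y'.presheaf.map (homOfLE hle).op s = Y'.presheaf.map (homOfLE hle).op t :=
      hb.1 (by rw [nat, nat, hst])
    have h4 := congrArg (Y'.presheaf.germ W' y hyW').hom h2
    erw [TopCat.Presheaf.germ_res_apply, TopCat.Presheaf.germ_res_apply] at h4
    exact h4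
  refine ⟨hinj W, fun t => ?_⟩
  choose V hle hyV hb using fun y : W => small W y y.2
  choose s hs using fun y : W => (hb y).2 (X'.presheaf.map (homOfLE (f'.preimage_mono (hle y))).op t)
  have res : ∀ (y : W) (U : Y'.Opens) (h : U ≤ V y),
      f'.app U (Y'.presheaf.map (homOfLE h).op (s y)) =
        X'.presheaf.map (homOfLE (f'.preimage_mono (h.trans (hle y)))).op t := fun y U h => by
    rw [nat h, hs, ← CommRingCat.comp_apply, ← Functor.map_comp]
    rfl
  have compat : TopCat.Presheaf.IsCompatible (F := Y'.sheaf.1) V s := fun y z =>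
    hinj _ ((res y (V y ⊓ V z) inf_le_left).trans (res z (V y ⊓ V z) inf_le_right).symm)
  obtain ⟨σ, hσ, -⟩ := TopCat.Sheaf.existsUnique_gluing' Y'.sheaf V W (fun y => homOfLE (hle y))
    (fun y hy => Opens.mem_iSup.mpr ⟨⟨y, hy⟩, hyV ⟨y, hy⟩⟩) s compat
  refine ⟨σ, TopCat.Sheaf.eq_of_locally_eq' X'.sheaf (fun y : W => f' ⁻¹ᵁ V y) (f' ⁻¹ᵁ W)
    (fun y => homOfLE (f'.preimage_mono (hle y)))
    (fun x hx => Opens.mem_iSup.mpr ⟨⟨f' x, hx⟩, hyV ⟨f' x, hx⟩⟩) _ _ fun y => ?_⟩
  refine (nat (hle y) σ).symm.trans ?_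
  exact (congrArg (f'.app (V y)) (hσ y)).trans (hs y)

variable {T Z : Scheme.{u}}

/-- A morphism collapsing the fibres descends uniquely. -/
theorem existsUnique_desc (p : X ⟶ T) (h : X ⟶ Z) [UniversallyClosed p]
    (hb : ∀ U : T.Opens, Function.Bijective (p.app U).hom) (hc : ∀ t, t ∈ H0Lib.collapse p h) :
    ∃! k : T ⟶ Z, p ≫ k = h := by
  haveI := surjective_of_bijective p hb
  obtain ⟨k, hk⟩ := H0Lib.exists_factor_on p h hb ⊤ fun t _ => hc t
  have e1 : (p ∣_ ⊤) = (p ⁻¹ᵁ (⊤ : T.Opens)).ι ≫ p ≫ T.topIso.inv := by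
    rw [← cancel_mono (⊤ : T.Opens).ι, morphismRestrict_ι]
    simp
  refine ⟨T.topIso.inv ≫ k, ?_, fun k' hk' => H0Lib.hom_ext_of_bijective p hb _ _ ?_⟩
  · rw [e1, Category.assoc, Category.assoc] at hk
    haveI : IsIso (p ⁻¹ᵁ (⊤ : T.Opens)).ι := inferInstanceAs (IsIso X.topIso.hom)
    exact ((cancel_epi _).1 hk).symm
  · rw [e1, Category.assoc, Category.assoc] at hk
    haveI : IsIso (p ⁻¹ᵁ (⊤ : T.Opens)).ι := inferInstanceAs (IsIso X.topIso.hom)
    rw [hk', (cancel_epi _).1 hk]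

end BlanchardLib
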