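import Groth.Agent.BlanchardLib.Desc
import Groth.Agent.LocFFLib.Basic

/-!
# Proper birational morphisms to normal schemes satisfy `O = f_* O`
-/

set_option autoImplicit false
set_option linter.style.haveILetI false
set_option backward.isDefEq.respectTransparency false

universe u

open CategoryTheory CategoryTheory.Limits AlgebraicGeometry Opposite TopologicalSpace

namespace BlanchardLib

/-- Bijectivity on functions is local on the base. -/
theorem bijective_app_of_small {X' Y' : Scheme.{u}} (f' : X' ⟶ Y')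
    (small : ∀ (W : Y'.Opens) (y : Y'), y ∈ W → ∃ W' : Y'.Opens, W' ≤ W ∧ y ∈ W' ∧
      Function.Bijective (f'.app W').hom) (W : Y'.Opens) : Function.Bijective (f'.app W).hom := by
  have nat : ∀ {V W : Y'.Opens} (h : V ≤ W) (s : Γ(Y', W)),
      f'.app V (Y'.presheaf.map (homOfLE h).op s) =
        X'.presheaf.map (homOfLE (f'.preimage_mono h)).op (f'.app W s) := fun h s => by
    rw [← CommRingCat.comp_apply, Scheme.Hom.naturality]
    rfl
  have hinj : ∀ W : Y'.Opens, Function.Injective (f'.app W).hom := fun W s t hst => by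
    refine TopCat.Presheaf.section_ext Y'.sheaf W s t fun y hy => ?_
    obtain ⟨W', hle, hyW', hb⟩ := small W y hy
    have h2 : Y'.presheaf.map (homOfLE hle).op s = Y'.presheaf.map (homOfLE hle).op t :=
      hb.1 (by rw [nat, nat, hst])
    have h4 := congrArg (Y'.presheaf.germ W' y hyW').hom h2
    erw [TopCat.Presheaf.germ_res_apply, TopCat.Presheaf.germ_res_apply] at h4
    exact h4
  refine ⟨hinj W, fun t => ?_⟩
  choose V hle hyV hb using fun y : W => small W y y.2
  choose s hs using fun y : W => (hb y).2 (X'.presheaf.map (homOfLE (f'.preimage_mono (hle y))).op t)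
  have res : ∀ (y : W) (U : Y'.Opens) (h : U ≤ V y),
      f'.app U (Y'.presheaf.map (homOfLE h).op (s y)) =
        X'.presheaf.map (homOfLE (f'.preimage_mono (h.trans (hle y)))).op t := fun y U h => by
    rw [nat h, hs, ← CommRingCat.comp_apply, ← Functor.map_comp]
    rfl
  have compat : TopCat.Presheaf.IsCompatible (F := Y'.sheaf.1) V s := fun y z =>
    hinj _ ((res y (V y ⊓ V z) inf_le_left).trans (res z (V y ⊓ V z) inf_le_right).symm)
  obtain ⟨σ, hσ, -⟩ := TopCat.Sheaf.existsUnique_gluing' Y'.sheaf V W (fun y => homOfLE (hle y))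
    (fun y hy => Opens.mem_iSup.mpr ⟨⟨y, hy⟩, hyV ⟨y, hy⟩⟩) s compat
  refine ⟨σ, TopCat.Sheaf.eq_of_locally_eq' X'.sheaf (fun y : W => f' ⁻¹ᵁ V y) (f' ⁻¹ᵁ W)
    (fun y => homOfLE (f'.preimage_mono (hle y)))
    (fun x hx => Opens.mem_iSup.mpr ⟨⟨f' x, hx⟩, hyV ⟨f' x, hx⟩⟩) _ _ fun y => ?_⟩
  refine (nat (hle y) σ).symm.trans ?_
  exact (congrArg (f'.app (V y)) (hσ y)).trans (hs y)

/-- A proper morphism of integral schemes to a normal one which is an isomorphism over a nonempty open is bijective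
on functions. -/
theorem bijective_app_of_birational {X Y : Scheme.{u}} [IsIntegral X] [IsIntegral Y] (hY : Pi1.IsNormalScheme Y)
    (f : X ⟶ Y) [UniversallyClosed f] (V : Y.Opens) (hV : Nonempty V) (hiso : IsIso (f ∣_ V)) (W : Y.Opens) :
    Function.Bijective (f.app W).hom := by
  refine bijective_app_of_small f (fun W y hy => ?_) W
  obtain ⟨U, hU, hyU, hUW⟩ := exists_isAffineOpen_mem_and_subset (x := y) (U := W) hy
  refine ⟨U, hUW, hyU, ?_⟩
  haveI : Nonempty U := ⟨⟨y, hyU⟩⟩
  obtain ⟨v⟩ := hV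
  have hηV : genericPoint Y ∈ V := ((genericPoint_spec Y).mem_open_set_iff V.2).2 ⟨v.1, trivial, v.2⟩
  have hηU : genericPoint Y ∈ U := ((genericPoint_spec Y).mem_open_set_iff U.2).2 ⟨y, trivial, hyU⟩
  let U' := U ⊓ V
  haveI : Nonempty U' := ⟨⟨genericPoint Y, hηU, hηV⟩⟩
  -- on the smaller open the map is bijective
  have hb : Function.Bijective (f.app U').hom := by
    haveI := hiso
    have e : V.ι ''ᵁ (V.ι ⁻¹ᵁ U') = U' := by
      rw [Scheme.Hom.image_preimage_eq_opensRange_inf, Scheme.Opens.opensRange_ι]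
      exact inf_eq_right.2 inf_le_right
    rw [← e]
    have h := morphismRestrict_app f V (V.ι ⁻¹ᵁ U')
    haveI : IsIso (f.app (V.ι ''ᵁ (V.ι ⁻¹ᵁ U')) ≫
        X.presheaf.map (eqToHom (image_morphismRestrict_preimage f V (V.ι ⁻¹ᵁ U'))).op) := by
      rw [← h]; exact Scheme.Hom.isIso_app (f ∣_ V) _ (by rw [Scheme.Hom.opensRange_of_isIso]; exact le_top)
    haveI : IsIso (f.app (V.ι ''ᵁ (V.ι ⁻¹ᵁ U'))) :=
      IsIso.of_isIso_comp_right _ (X.presheaf.map (eqToHom (image_morphismRestrict_preimage f V (V.ι ⁻¹ᵁ U'))).op)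
    exact ConcreteCategory.bijective_of_isIso _
  obtain ⟨x', -⟩ := (f ∣_ V).surjective v
  haveI : Nonempty (f ⁻¹ᵁ U' : X.Opens) := by
    obtain ⟨x, hx⟩ := (f ∣_ V).surjective ⟨genericPoint Y, hηV⟩
    refine ⟨⟨(f ⁻¹ᵁ V).ι x, ?_⟩⟩
    show f ((f ⁻¹ᵁ V).ι x) ∈ U'
    rw [← Scheme.Hom.comp_apply, ← morphismRestrict_ι, Scheme.Hom.comp_apply, hx]
    exact ⟨hηU, hηV⟩
  let res := X.presheaf.map (homOfLE (f.preimage_mono (inf_le_left : U' ≤ U))).op
  have hres : Function.Injective res.hom := map_injective_of_isIntegral X _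
  let resY := Y.presheaf.map (homOfLE (inf_le_left : U' ≤ U)).op
  have hresY : Function.Injective resY.hom := map_injective_of_isIntegral Y _
  have nat : ∀ a : Γ(Y, U), res (f.app U a) = f.app U' (resY a) := fun a => by
    show _ = (resY ≫ f.app U') a
    rw [Scheme.Hom.naturality]
    rfl
  refine ⟨fun a b hab => hresY (hb.1 (by rw [← nat, ← nat, hab])), fun s => ?_⟩
  -- a function upstairs is integral, hence comes from the base
  haveI : IsAffine U.toScheme := hU
  have hint : ((f ∣_ U).appTop).hom.IsIntegral := isIntegral_appTop_of_universallyClosed (f ∣_ U)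
  have hint' : (f.app U).hom.IsIntegral := by
    rw [morphismRestrict_appTop, CommRingCat.hom_comp, RingHom.isIntegral_respectsIso.cancel_right_isIso] at hint
    have e : ∀ U₁ : Y.Opens, U₁ = U.ι ''ᵁ ⊤ → (f.app U₁).hom.IsIntegral := by rintro U₁ rfl; exact hint
    exact e U U.ι_image_top.symm
  let ψ : Γ(X, f ⁻¹ᵁ U) →+* Y.functionField :=
    (Y.germToFunctionField U').hom.comp ((RingEquiv.ofBijective (f.app U').hom hb).symm.toRingHom.comp res.hom)
  have hψ : ∀ a : Γ(Y, U), ψ (f.app U a) = algebraMap Γ(Y, U) Y.functionField a := fun a => by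
    show Y.germToFunctionField U' ((RingEquiv.ofBijective (f.app U').hom hb).symm (res (f.app U a))) = _
    rw [nat, show (RingEquiv.ofBijective (f.app U').hom hb).symm (f.app U' (resY a)) = resY a from
      (RingEquiv.ofBijective (f.app U').hom hb).symm_apply_apply _]
    exact TopCat.Presheaf.germ_res_apply Y.presheaf _ _ _ a
  obtain ⟨p, hp, hev⟩ := hint' s
  obtain ⟨t, ht⟩ := LocFFLib.exists_section_of_integral hY U (ψ s) ⟨p, hp, by
    rw [show (algebraMap Γ(Y, U) Y.functionField) = ψ.comp (f.app U).hom from RingHom.ext fun a => (hψ a).symm,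
      ← Polynomial.hom_eval₂, hev, map_zero]⟩
  refine ⟨t, hres ?_⟩
  have h := (hψ t).trans ht
  exact (RingEquiv.ofBijective (f.app U').hom hb).symm.injective
    (Y.germToFunctionField_injective U' h)

end BlanchardLib
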