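import Groth.Agent.BlanchardLib.Desc
import Groth.Agent.CommSubLib.Main
import Groth.Prelude

/-!
# Blanchard's lemma
-/

set_option autoImplicit false
set_option linter.style.haveILetI false
set_option backward.isDefEq.respectTransparency false

universe u

open CategoryTheory CategoryTheory.Limits MonoidalCategory CartesianMonoidalCategory AlgebraicGeometry
open scoped MonObj

noncomputable section

namespace BlanchardLib

variable {k : Type u} [Field k] {G X Y : Over (Spec (CommRingCat.of k))} [GrpObj G]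

theorem isPullback_whisker (H : Over (Spec (CommRingCat.of k))) (f : X ⟶ Y) :
    IsPullback (snd H X) (H ◁ f) f (snd H Y) :=
  IsPullback.of_isLimit' ⟨(whiskerLeft_snd H f).symm⟩
    (PullbackCone.IsLimit.mk _ (fun s => lift (s.snd ≫ fst H Y) s.fst) (fun s => lift_snd _ _)
      (fun s => CartesianMonoidalCategory.hom_ext _ _ (by simp)
        (by simp only [Category.assoc, whiskerLeft_snd, lift_snd_assoc]; exact s.condition))
      (fun s m h₁ h₂ => CartesianMonoidalCategory.hom_ext _ _ (by rw [lift_fst, ← h₂]; simp)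
        (by rw [lift_snd, ← h₁])))

instance flat_snd (H Z : Over (Spec (CommRingCat.of k))) : Flat (snd H Z).left := by
  haveI : Flat H.hom := Groth.Agent.GrpField.flat_field _
  show Flat (pullback.snd H.hom Z.hom)
  infer_instance

variable (f : X ⟶ Y) [UniversallyClosed f.left] [QuasiCompact f.left] [QuasiSeparated f.left]
  (hf : ∀ U : Y.left.Opens, IsIso (f.left.app U))

instance universallyClosed_whisker (H : Over (Spec (CommRingCat.of k))) : UniversallyClosed (H ◁ f).left :=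
  MorphismProperty.of_isPullback (P := @UniversallyClosed) ((isPullback_whisker H f).map (Over.forget _)) ‹_›

include hf in
theorem bijective_whisker (H : Over (Spec (CommRingCat.of k))) (U : (H ⊗ Y).left.Opens) :
    Function.Bijective ((H ◁ f).left.app U).hom := by
  haveI : Flat ((Over.forget _).map (snd H Y)) := flat_snd H Y
  haveI : QuasiCompact ((Over.forget _).map f) := ‹QuasiCompact f.left›
  haveI : QuasiSeparated ((Over.forget _).map f) := ‹QuasiSeparated f.left›
  exact bijective_app_baseChange ((isPullback_whisker H f).map (Over.forget _)) hf U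

include hf in
theorem cancel_whisker (H : Over (Spec (CommRingCat.of k))) {Z : Over (Spec (CommRingCat.of k))}
    {p q : H ⊗ Y ⟶ Z} (h : (H ◁ f) ≫ p = (H ◁ f) ≫ q) : p = q := by
  haveI := surjective_of_bijective (H ◁ f).left (bijective_whisker f hf H)
  refine Over.OverMorphism.ext (H0Lib.hom_ext_of_bijective (H ◁ f).left (bijective_whisker f hf H) _ _ ?_)
  rw [← Over.comp_left, h, Over.comp_left]

variable (a : AlgGrp.Action G X)

include hf in
/-- An action collapsing fibres to fibres descends uniquely. -/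
theorem existsUnique_action (hc : ∀ w, w ∈ H0Lib.collapse (G ◁ f).left (a.act ≫ f).left) :
    ∃! b : AlgGrp.Action G Y, (G ◁ f) ≫ b.act = a.act ≫ f := by
  obtain ⟨c, hc', -⟩ := existsUnique_desc (G ◁ f).left (a.act ≫ f).left (bijective_whisker f hf G) hc
  let act : G ⊗ Y ⟶ Y := Over.homMk c (by
    haveI := surjective_of_bijective (G ◁ f).left (bijective_whisker f hf G)
    refine H0Lib.hom_ext_of_bijective (G ◁ f).left (bijective_whisker f hf G) _ _ ?_
    rw [← Category.assoc, hc', Over.w (a.act ≫ f), Over.w (G ◁ f)])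
  have hact : (G ◁ f) ≫ act = a.act ≫ f := Over.OverMorphism.ext hc'
  have one_act : (η[G] ▷ Y) ≫ act = (λ_ Y).hom := by
    refine cancel_whisker f hf (𝟙_ _) ?_
    rw [← Category.assoc, whisker_exchange, Category.assoc, hact, reassoc_of% a.one_act, leftUnitor_naturality]
  have mul_act : (μ[G] ▷ Y) ≫ act = (α_ G G Y).hom ≫ (G ◁ act) ≫ act := by
    refine cancel_whisker f hf (G ⊗ G) ?_
    rw [← Category.assoc, whisker_exchange, Category.assoc, hact, reassoc_of% a.mul_act,
      associator_naturality_right_assoc, ← MonoidalCategory.whiskerLeft_comp_assoc, hact,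
      MonoidalCategory.whiskerLeft_comp_assoc, hact]
  refine ⟨⟨act, one_act, mul_act⟩, hact, fun b hb => ?_⟩
  have h2 : b.act = act := cancel_whisker f hf G (hb.trans hact.symm)
  obtain ⟨bact, _, _⟩ := b
  subst h2
  rfl

include hf in
/-- Points with equal images go to points with equal images. -/
theorem act_eq_of_collapse (hc : ∀ w, w ∈ H0Lib.collapse (G ◁ f).left (a.act ≫ f).left)
    {T : Over (Spec (CommRingCat.of k))} (g : T ⟶ G) (x₁ x₂ : T ⟶ X) (e : x₁ ≫ f = x₂ ≫ f) :
    lift g x₁ ≫ a.act ≫ f = lift g x₂ ≫ a.act ≫ f := by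
  obtain ⟨b, hb, -⟩ := existsUnique_action f hf a hc
  rw [← hb, lift_whiskerLeft_assoc, lift_whiskerLeft_assoc, e]

/-- The condition on points gives the condition on the underlying sets. -/
theorem apply_eq_of_pts (h : ∀ (T : Over (Spec (CommRingCat.of k))) (g : T ⟶ G) (x₁ x₂ : T ⟶ X),
      x₁ ≫ f = x₂ ≫ f → lift g x₁ ≫ a.act ≫ f = lift g x₂ ≫ a.act ≫ f)
    (p q : (G ⊗ X).left) (hpq : (G ◁ f).left p = (G ◁ f).left q) :
    (a.act ≫ f).left p = (a.act ≫ f).left q := by
  let φ := (G ◁ f).left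
  obtain ⟨z, hz1, hz2⟩ := Scheme.Pullback.exists_preimage_pullback (f := φ) (g := φ) p q hpq
  let T : Over (Spec (CommRingCat.of k)) := Over.mk (pullback.fst φ φ ≫ (G ⊗ X).hom)
  let s : T ⟶ G ⊗ X := Over.homMk (pullback.fst φ φ) rfl
  let t : T ⟶ G ⊗ X := Over.homMk (pullback.snd φ φ) (by
    show pullback.snd φ φ ≫ (G ⊗ X).hom = pullback.fst φ φ ≫ (G ⊗ X).hom
    rw [← Over.w (G ◁ f), pullback.condition_assoc])
  have hst : s ≫ (G ◁ f) = t ≫ (G ◁ f) := Over.OverMorphism.ext pullback.condition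
  have h1 : s ≫ fst G X = t ≫ fst G X := by simpa using congrArg (· ≫ fst G Y) hst
  have h2 : (s ≫ snd G X) ≫ f = (t ≫ snd G X) ≫ f := by simpa using congrArg (· ≫ snd G Y) hst
  have h3 := h T (s ≫ fst G X) _ _ h2
  conv_rhs at h3 => rw [h1]
  simp only [← comp_lift, lift_fst_snd, Category.comp_id] at h3
  rw [← hz1, ← hz2]
  exact congr($(congrArg CommaMorphism.left h3) z)

include hf in
theorem collapse_of_apply_eq (h : ∀ p q : (G ⊗ X).left, (G ◁ f).left p = (G ◁ f).left q →
      (a.act ≫ f).left p = (a.act ≫ f).left q) (w : (G ⊗ Y).left) :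
    w ∈ H0Lib.collapse (G ◁ f).left (a.act ≫ f).left := by
  haveI := surjective_of_bijective (G ◁ f).left (bijective_whisker f hf G)
  obtain ⟨p, rfl⟩ := (G ◁ f).left.surjective w
  exact ⟨_, fun q hq => h q p hq⟩

theorem lift_mul_act {T : Over (Spec (CommRingCat.of k))} (g g' : T ⟶ G) (x : T ⟶ X) :
    lift (g * g') x ≫ a.act = lift g (lift g' x ≫ a.act) ≫ a.act := by
  have h := congrArg (lift (lift g g') x ≫ ·) a.mul_act
  simpa [Hom.mul_def] using h

theorem lift_one_act {T : Over (Spec (CommRingCat.of k))} (x : T ⟶ X) : lift (1 : T ⟶ G) x ≫ a.act = x := by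
  have h := congrArg (lift (toUnit T) x ≫ ·) a.one_act
  simpa [Hom.one_def] using h

include hf in
/-- Blanchard: a connected group maps fibres into fibres. -/
theorem collapse_of_connected [LocallyOfFiniteType G.hom] [ConnectedSpace G.left] (w : (G ⊗ Y).left) :
    w ∈ H0Lib.collapse (G ◁ f).left (a.act ≫ f).left := by
  refine collapse_of_apply_eq f hf a ?_ w
  intro p q hpq
  let φ := (G ◁ f).left
  haveI : UniversallyClosed φ := universallyClosed_whisker f G
  haveI : Surjective φ := surjective_of_bijective φ (bijective_whisker f hf G)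
  -- the open locus of collapsed fibres and the morphism on it
  let W : (G ⊗ Y).left.Opens := ⟨_, H0Lib.isOpen_collapse φ (a.act ≫ f).left (bijective_whisker f hf G)⟩
  obtain ⟨c, hc⟩ := H0Lib.exists_factor_on φ (a.act ≫ f).left (bijective_whisker f hf G) W le_rfl
  have key : ∀ (T : Over (Spec (CommRingCat.of k))) (g : T ⟶ G) (x₁ x₂ : T ⟶ X), x₁ ≫ f = x₂ ≫ f →
      (∀ t, (lift g (x₁ ≫ f)).left t ∈ W) → lift g x₁ ≫ a.act ≫ f = lift g x₂ ≫ a.act ≫ f := by
    intro T g x₁ x₂ e hW
    have main : ∀ x : T ⟶ X, x ≫ f = x₁ ≫ f →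
        ∃ l : T.left ⟶ W.toScheme, l ≫ W.ι = (lift g (x₁ ≫ f)).left ∧
          (lift g x ≫ a.act ≫ f).left = l ≫ c := fun x hx => by
      have hφ : (lift g x).left ≫ φ = (lift g (x₁ ≫ f)).left := by
        rw [← Over.comp_left, lift_whiskerLeft, hx]
      have r : Set.range (lift g x).left.base ⊆ Set.range (φ ⁻¹ᵁ W).ι.base := by
        rintro _ ⟨t, rfl⟩
        rw [Scheme.Opens.range_ι]
        show φ ((lift g x).left t) ∈ W
        rw [← Scheme.Hom.comp_apply, hφ]
        exact hW t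
      refine ⟨IsOpenImmersion.lift (φ ⁻¹ᵁ W).ι _ r ≫ (φ ∣_ W), ?_, ?_⟩
      · rw [Category.assoc, morphismRestrict_ι, IsOpenImmersion.lift_fac_assoc, hφ]
      · rw [Category.assoc, ← hc, IsOpenImmersion.lift_fac_assoc, Over.comp_left]
    obtain ⟨l, hl, h1⟩ := main x₁ rfl
    obtain ⟨l', hl', h2⟩ := main x₂ e.symm
    have : l = l' := by rw [← cancel_mono W.ι, hl, hl']
    exact Over.OverMorphism.ext (by rw [h1, h2, this])
  -- a common field valued point
  obtain ⟨z, hz1, hz2⟩ := Scheme.Pullback.exists_preimage_pullback (f := φ) (g := φ) p q hpq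
  let T : Over (Spec (CommRingCat.of k)) :=
    Over.mk ((pullback φ φ).fromSpecResidueField z ≫ pullback.fst φ φ ≫ (G ⊗ X).hom)
  haveI : Subsingleton T.left := inferInstanceAs (Subsingleton (PrimeSpectrum _))
  haveI : IrreducibleSpace T.left := inferInstanceAs (IrreducibleSpace (PrimeSpectrum _))
  let s : T ⟶ G ⊗ X := Over.homMk ((pullback φ φ).fromSpecResidueField z ≫ pullback.fst φ φ) (Category.assoc _ _ _)
  let t : T ⟶ G ⊗ X := Over.homMk ((pullback φ φ).fromSpecResidueField z ≫ pullback.snd φ φ) (by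
    show _ = (pullback φ φ).fromSpecResidueField z ≫ pullback.fst φ φ ≫ (G ⊗ X).hom
    rw [Category.assoc, ← Over.w (G ◁ f), pullback.condition_assoc])
  have hst : s ≫ (G ◁ f) = t ≫ (G ◁ f) := Over.OverMorphism.ext (by simp [s, t, φ, pullback.condition])
  have h1 : s ≫ fst G X = t ≫ fst G X := by simpa using congrArg (· ≫ fst G Y) hst
  have h2 : (s ≫ snd G X) ≫ f = (t ≫ snd G X) ≫ f := by simpa using congrArg (· ≫ snd G Y) hst
  generalize hg : s ≫ fst G X = g at h1
  generalize hx₁ : s ≫ snd G X = x₁ at h2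
  generalize hx₂ : t ≫ snd G X = x₂ at h2
  suffices lift g x₁ ≫ a.act ≫ f = lift g x₂ ≫ a.act ≫ f by
    have es : s = lift g x₁ := by rw [← hg, ← hx₁, ← comp_lift, lift_fst_snd, Category.comp_id]
    have et : t = lift g x₂ := by rw [h1, ← hx₂, ← comp_lift, lift_fst_snd, Category.comp_id]
    rw [← es, ← et] at this
    have h3 := congr($(congrArg CommaMorphism.left this) (IsLocalRing.closedPoint _))
    simp only [Over.comp_left, Scheme.Hom.comp_apply, s, t, Over.homMk_left] at h3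
    erw [Scheme.fromSpecResidueField_apply, hz1, hz2] at h3
    exact h3
  clear hst hg hx₁ hx₂
  -- the translates of the open locus meet in the irreducible product with the point
  haveI := CommSubLib.geometricallyIrreducible_of_connected G
  haveI : UniversallyOpen G.hom := inferInstance
  haveI : IrreducibleSpace (G ⊗ T).left := inferInstanceAs (IrreducibleSpace ↥(pullback G.hom T.hom))
  let b : G ⊗ T ⟶ G := fst G T
  let σ := snd G T
  have one_mem : ∀ {Q : Over (Spec (CommRingCat.of k))} (y : Q ⟶ X) (r : Q.left),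
      (lift (1 : Q ⟶ G) (y ≫ f)).left r ∈ W := fun {Q} y r => by
    show _ ∈ H0Lib.collapse φ (a.act ≫ f).left
    refine ⟨(y ≫ f).left r, fun x hx => ?_⟩
    let E : Over (Spec (CommRingCat.of k)) := Over.mk ((G ⊗ X).left.fromSpecResidueField x ≫ (G ⊗ X).hom)
    let e : E ⟶ G ⊗ X := Over.homMk ((G ⊗ X).left.fromSpecResidueField x) rfl
    obtain ⟨u, hu1, hu2⟩ := Scheme.Pullback.exists_preimage_pullback (f := φ) (g := (lift (1 : Q ⟶ G) (y ≫ f)).left) x r hx
    let P : Over (Spec (CommRingCat.of k)) :=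
      Over.mk (pullback.snd φ (lift (1 : Q ⟶ G) (y ≫ f)).left ≫ Q.hom)
    let πQ : P ⟶ Q := Over.homMk (pullback.snd φ (lift (1 : Q ⟶ G) (y ≫ f)).left) rfl
    let πX : P ⟶ G ⊗ X := Over.homMk (pullback.fst φ (lift (1 : Q ⟶ G) (y ≫ f)).left) (by
      show pullback.fst φ _ ≫ (G ⊗ X).hom = pullback.snd φ _ ≫ Q.hom
      rw [← Over.w (G ◁ f), pullback.condition_assoc, Over.w])
    have hπ : πX ≫ (G ◁ f) = πQ ≫ lift (1 : Q ⟶ G) (y ≫ f) := Over.OverMorphism.ext pullback.condition
    have e1 : πX ≫ fst G X = 1 := by simpa [MonObj.comp_one] using congrArg (· ≫ fst G Y) hπ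
    have e2 : (πX ≫ snd G X) ≫ f = πQ ≫ y ≫ f := by simpa using congrArg (· ≫ snd G Y) hπ
    have e3 : πX ≫ a.act ≫ f = πQ ≫ y ≫ f := by
      rw [← e2, show πX = lift (πX ≫ fst G X) (πX ≫ snd G X) by rw [← comp_lift, lift_fst_snd, Category.comp_id],
        e1, ← Category.assoc, lift_one_act, lift_snd]
    rw [← hu1, ← hu2]
    exact congr($(congrArg CommaMorphism.left e3) u)
  let y₁ := σ ≫ x₁
  let gg : G ⊗ T ⟶ G := σ ≫ g
  let O₁ := (lift b (y₁ ≫ f)).left ⁻¹ᵁ W
  let O₂ := (lift (gg * b⁻¹) (lift b y₁ ≫ a.act ≫ f)).left ⁻¹ᵁ W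
  have n₁ : (O₁ : Set (G ⊗ T).left).Nonempty := by
    refine ⟨(lift (1 : T ⟶ G) (𝟙 T)).left (IsLocalRing.closedPoint _), ?_⟩
    show (lift (1 : T ⟶ G) (𝟙 T) ≫ lift b (y₁ ≫ f)).left _ ∈ W
    rw [comp_lift, show lift (1 : T ⟶ G) (𝟙 T) ≫ b = 1 from lift_fst _ _,
      show lift (1 : T ⟶ G) (𝟙 T) ≫ y₁ ≫ f = x₁ ≫ f by simp [y₁, σ]]
    exact one_mem x₁ _
  have n₂ : (O₂ : Set (G ⊗ T).left).Nonempty := by
    refine ⟨(lift g (𝟙 T)).left (IsLocalRing.closedPoint _), ?_⟩
    show (lift g (𝟙 T) ≫ lift (gg * b⁻¹) (lift b y₁ ≫ a.act ≫ f)).left _ ∈ W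
    rw [comp_lift, MonObj.comp_mul, GrpObj.comp_inv,
      show lift g (𝟙 T) ≫ gg = g by simp [gg, σ], show lift g (𝟙 T) ≫ b = g from lift_fst _ _, mul_inv_cancel,
      show lift g (𝟙 T) ≫ lift b y₁ ≫ a.act ≫ f = (lift g x₁ ≫ a.act) ≫ f by
        rw [← Category.assoc, comp_lift, Category.assoc]; simp [b, y₁, σ]]
    exact one_mem _ _
  obtain ⟨r, hr1, hr2⟩ := nonempty_preirreducible_inter O₁.2 O₂.2 n₁ n₂
  let R : Over (Spec (CommRingCat.of k)) := Over.mk ((G ⊗ T).left.fromSpecResidueField r ≫ (G ⊗ T).hom)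
  haveI : Subsingleton R.left := inferInstanceAs (Subsingleton (PrimeSpectrum _))
  let ρ : R ⟶ G ⊗ T := Over.homMk ((G ⊗ T).left.fromSpecResidueField r) rfl
  have hρ : ∀ o : R.left, ρ.left o = r := fun o => Scheme.fromSpecResidueField_apply _ _
  have e : (ρ ≫ σ ≫ x₁) ≫ f = (ρ ≫ σ ≫ x₂) ≫ f := by simp only [Category.assoc, h2]
  have A := key R (ρ ≫ b) (ρ ≫ σ ≫ x₁) (ρ ≫ σ ≫ x₂) e fun o => by
    rw [Category.assoc, Category.assoc, ← comp_lift, Over.comp_left, Scheme.Hom.comp_apply, hρ]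
    exact hr1
  have B := key R (ρ ≫ (gg * b⁻¹)) (lift (ρ ≫ b) (ρ ≫ σ ≫ x₁) ≫ a.act) (lift (ρ ≫ b) (ρ ≫ σ ≫ x₂) ≫ a.act)
    (by simpa only [Category.assoc] using A) fun o => by
    rw [Category.assoc, ← comp_lift, Category.assoc, ← comp_lift, Over.comp_left, Scheme.Hom.comp_apply, hρ]
    exact hr2
  rw [← Category.assoc (lift (ρ ≫ (gg * b⁻¹)) _), ← Category.assoc (lift (ρ ≫ (gg * b⁻¹)) _), ← lift_mul_act,
    ← lift_mul_act, MonObj.comp_mul, GrpObj.comp_inv, inv_mul_cancel_right] at B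
  have B' : (ρ ≫ σ) ≫ lift g x₁ ≫ a.act ≫ f = (ρ ≫ σ) ≫ lift g x₂ ≫ a.act ≫ f := by
    simpa only [← Category.assoc, comp_lift, gg] using B
  haveI : Surjective (ρ ≫ σ).left := ⟨fun o => ⟨IsLocalRing.closedPoint _, Subsingleton.elim _ _⟩⟩
  haveI : Flat (ρ ≫ σ).left := FibBCLib.flat_toField (ρ ≫ σ).left
  haveI : Epi (ρ ≫ σ).left := Flat.epi_of_flat_of_surjective _
  exact Over.OverMorphism.ext ((cancel_epi (ρ ≫ σ).left).1 (congrArg CommaMorphism.left B'))

end BlanchardLib
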